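import Cfsg.Agent.CocycleCert.ThTwo.Data

/-! Generated: checks of the edges. -/

set_option autoImplicit false
set_option Elab.async false
set_option maxRecDepth 100000

namespace Cfsg.Agent.CocycleCert.ThTwo

open Cfsg.Agent.CosetCert

theorem var_at3000 : allFrom cert.varB 3000 1500 = true := by decide +kernel

theorem var_at21000 : allFrom cert.varB 21000 1500 = true := by decide +kernel

theorem var_at39000 : allFrom cert.varB 39000 1500 = true := by decide +kernel

theorem var_at57000 : allFrom cert.varB 57000 1500 = true := by decide +kernel

theorem var_at75000 : allFrom cert.varB 75000 1500 = true := by decide +kernel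

theorem var_at93000 : allFrom cert.varB 93000 1500 = true := by decide +kernel

theorem var_at111000 : allFrom cert.varB 111000 1500 = true := by decide +kernel


end Cfsg.Agent.CocycleCert.ThTwo
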