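import Cfsg.Agent.CocycleCert.ThTwo.Data

/-! Generated: checks of the edges. -/

set_option autoImplicit false
set_option Elab.async false
set_option maxRecDepth 100000

namespace Cfsg.Agent.CocycleCert.ThTwo

open Cfsg.Agent.CosetCert

theorem var_at4500 : allFrom cert.varB 4500 1500 = true := by decide +kernel

theorem var_at22500 : allFrom cert.varB 22500 1500 = true := by decide +kernel

theorem var_at40500 : allFrom cert.varB 40500 1500 = true := by decide +kernel

theorem var_at58500 : allFrom cert.varB 58500 1500 = true := by decide +kernel

theorem var_at76500 : allFrom cert.varB 76500 1500 = true := by decide +kernel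

theorem var_at94500 : allFrom cert.varB 94500 1500 = true := by decide +kernel

theorem var_at112500 : allFrom cert.varB 112500 1500 = true := by decide +kernel


end Cfsg.Agent.CocycleCert.ThTwo
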