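import Cfsg.Agent.CocycleCert.ThTwo.Check0
import Cfsg.Agent.CocycleCert.ThTwo.Check1
import Cfsg.Agent.CocycleCert.ThTwo.Check2
import Cfsg.Agent.CocycleCert.ThTwo.Check3
import Cfsg.Agent.CocycleCert.ThTwo.Check4
import Cfsg.Agent.CocycleCert.ThTwo.Check5
import Cfsg.Agent.CocycleCert.ThTwo.Check6
import Cfsg.Agent.CocycleCert.ThTwo.Check7
import Cfsg.Agent.CocycleCert.ThTwo.Check8
import Cfsg.Agent.CocycleCert.ThTwo.Check9
import Cfsg.Agent.CocycleCert.ThTwo.Check10
import Cfsg.Agent.CocycleCert.ThTwo.Check11

/-! Generated: kernel checks combined. -/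

set_option autoImplicit false
set_option Elab.async false

namespace Cfsg.Agent.CocycleCert.ThTwo

open Cfsg.Agent.CosetCert

theorem var_ok : ∀ i, i < 122304 → cert.varB i = true := by
  have h0 : ∀ i, i < 0 → cert.varB i = true := forall_lt_zero
  have h1 := forall_lt_step (b := 1500) h0 var_at0 rfl
  have h2 := forall_lt_step (b := 3000) h1 var_at1500 rfl
  have h3 := forall_lt_step (b := 4500) h2 var_at3000 rfl
  have h4 := forall_lt_step (b := 6000) h3 var_at4500 rfl
  have h5 := forall_lt_step (b := 7500) h4 var_at6000 rfl
  have h6 := forall_lt_step (b := 9000) h5 var_at7500 rfl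
  have h7 := forall_lt_step (b := 10500) h6 var_at9000 rfl
  have h8 := forall_lt_step (b := 12000) h7 var_at10500 rfl
  have h9 := forall_lt_step (b := 13500) h8 var_at12000 rfl
  have h10 := forall_lt_step (b := 15000) h9 var_at13500 rfl
  have h11 := forall_lt_step (b := 16500) h10 var_at15000 rfl
  have h12 := forall_lt_step (b := 18000) h11 var_at16500 rfl
  have h13 := forall_lt_step (b := 19500) h12 var_at18000 rfl
  have h14 := forall_lt_step (b := 21000) h13 var_at19500 rfl
  have h15 := forall_lt_step (b := 22500) h14 var_at21000 rfl
  have h16 := forall_lt_step (b := 24000) h15 var_at22500 rfl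
  have h17 := forall_lt_step (b := 25500) h16 var_at24000 rfl
  have h18 := forall_lt_step (b := 27000) h17 var_at25500 rfl
  have h19 := forall_lt_step (b := 28500) h18 var_at27000 rfl
  have h20 := forall_lt_step (b := 30000) h19 var_at28500 rfl
  have h21 := forall_lt_step (b := 31500) h20 var_at30000 rfl
  have h22 := forall_lt_step (b := 33000) h21 var_at31500 rfl
  have h23 := forall_lt_step (b := 34500) h22 var_at33000 rfl
  have h24 := forall_lt_step (b := 36000) h23 var_at34500 rfl
  have h25 := forall_lt_step (b := 37500) h24 var_at36000 rfl
  have h26 := forall_lt_step (b := 39000) h25 var_at37500 rfl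
  have h27 := forall_lt_step (b := 40500) h26 var_at39000 rfl
  have h28 := forall_lt_step (b := 42000) h27 var_at40500 rfl
  have h29 := forall_lt_step (b := 43500) h28 var_at42000 rfl
  have h30 := forall_lt_step (b := 45000) h29 var_at43500 rfl
  have h31 := forall_lt_step (b := 46500) h30 var_at45000 rfl
  have h32 := forall_lt_step (b := 48000) h31 var_at46500 rfl
  have h33 := forall_lt_step (b := 49500) h32 var_at48000 rfl
  have h34 := forall_lt_step (b := 51000) h33 var_at49500 rfl
  have h35 := forall_lt_step (b := 52500) h34 var_at51000 rfl
  have h36 := forall_lt_step (b := 54000) h35 var_at52500 rfl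
  have h37 := forall_lt_step (b := 55500) h36 var_at54000 rfl
  have h38 := forall_lt_step (b := 57000) h37 var_at55500 rfl
  have h39 := forall_lt_step (b := 58500) h38 var_at57000 rfl
  have h40 := forall_lt_step (b := 60000) h39 var_at58500 rfl
  have h41 := forall_lt_step (b := 61500) h40 var_at60000 rfl
  have h42 := forall_lt_step (b := 63000) h41 var_at61500 rfl
  have h43 := forall_lt_step (b := 64500) h42 var_at63000 rfl
  have h44 := forall_lt_step (b := 66000) h43 var_at64500 rfl
  have h45 := forall_lt_step (b := 67500) h44 var_at66000 rfl
  have h46 := forall_lt_step (b := 69000) h45 var_at67500 rfl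
  have h47 := forall_lt_step (b := 70500) h46 var_at69000 rfl
  have h48 := forall_lt_step (b := 72000) h47 var_at70500 rfl
  have h49 := forall_lt_step (b := 73500) h48 var_at72000 rfl
  have h50 := forall_lt_step (b := 75000) h49 var_at73500 rfl
  have h51 := forall_lt_step (b := 76500) h50 var_at75000 rfl
  have h52 := forall_lt_step (b := 78000) h51 var_at76500 rfl
  have h53 := forall_lt_step (b := 79500) h52 var_at78000 rfl
  have h54 := forall_lt_step (b := 81000) h53 var_at79500 rfl
  have h55 := forall_lt_step (b := 82500) h54 var_at81000 rfl
  have h56 := forall_lt_step (b := 84000) h55 var_at82500 rfl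
  have h57 := forall_lt_step (b := 85500) h56 var_at84000 rfl
  have h58 := forall_lt_step (b := 87000) h57 var_at85500 rfl
  have h59 := forall_lt_step (b := 88500) h58 var_at87000 rfl
  have h60 := forall_lt_step (b := 90000) h59 var_at88500 rfl
  have h61 := forall_lt_step (b := 91500) h60 var_at90000 rfl
  have h62 := forall_lt_step (b := 93000) h61 var_at91500 rfl
  have h63 := forall_lt_step (b := 94500) h62 var_at93000 rfl
  have h64 := forall_lt_step (b := 96000) h63 var_at94500 rfl
  have h65 := forall_lt_step (b := 97500) h64 var_at96000 rfl
  have h66 := forall_lt_step (b := 99000) h65 var_at97500 rfl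
  have h67 := forall_lt_step (b := 100500) h66 var_at99000 rfl
  have h68 := forall_lt_step (b := 102000) h67 var_at100500 rfl
  have h69 := forall_lt_step (b := 103500) h68 var_at102000 rfl
  have h70 := forall_lt_step (b := 105000) h69 var_at103500 rfl
  have h71 := forall_lt_step (b := 106500) h70 var_at105000 rfl
  have h72 := forall_lt_step (b := 108000) h71 var_at106500 rfl
  have h73 := forall_lt_step (b := 109500) h72 var_at108000 rfl
  have h74 := forall_lt_step (b := 111000) h73 var_at109500 rfl
  have h75 := forall_lt_step (b := 112500) h74 var_at111000 rfl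
  have h76 := forall_lt_step (b := 114000) h75 var_at112500 rfl
  have h77 := forall_lt_step (b := 115500) h76 var_at114000 rfl
  have h78 := forall_lt_step (b := 117000) h77 var_at115500 rfl
  have h79 := forall_lt_step (b := 118500) h78 var_at117000 rfl
  have h80 := forall_lt_step (b := 120000) h79 var_at118500 rfl
  have h81 := forall_lt_step (b := 121500) h80 var_at120000 rfl
  have h82 := forall_lt_step (b := 122304) h81 var_at121500 rfl
  exact h82

theorem tree_at0 : allFrom cert.treeB 0 1500 = true := by decide +kernel

theorem tree_at1500 : allFrom cert.treeB 1500 1500 = true := by decide +kernel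

theorem tree_at3000 : allFrom cert.treeB 3000 1500 = true := by decide +kernel

theorem tree_at4500 : allFrom cert.treeB 4500 1500 = true := by decide +kernel

theorem tree_at6000 : allFrom cert.treeB 6000 1500 = true := by decide +kernel

theorem tree_at7500 : allFrom cert.treeB 7500 1500 = true := by decide +kernel

theorem tree_at9000 : allFrom cert.treeB 9000 1500 = true := by decide +kernel

theorem tree_at10500 : allFrom cert.treeB 10500 1500 = true := by decide +kernel

theorem tree_at12000 : allFrom cert.treeB 12000 1500 = true := by decide +kernel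

theorem tree_at13500 : allFrom cert.treeB 13500 1500 = true := by decide +kernel

theorem tree_at15000 : allFrom cert.treeB 15000 1500 = true := by decide +kernel

theorem tree_at16500 : allFrom cert.treeB 16500 972 = true := by decide +kernel

theorem tree_ok : ∀ i, i < 17472 → cert.treeB i = true := by
  have h0 : ∀ i, i < 0 → cert.treeB i = true := forall_lt_zero
  have h1 := forall_lt_step (b := 1500) h0 tree_at0 rfl
  have h2 := forall_lt_step (b := 3000) h1 tree_at1500 rfl
  have h3 := forall_lt_step (b := 4500) h2 tree_at3000 rfl
  have h4 := forall_lt_step (b := 6000) h3 tree_at4500 rfl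
  have h5 := forall_lt_step (b := 7500) h4 tree_at6000 rfl
  have h6 := forall_lt_step (b := 9000) h5 tree_at7500 rfl
  have h7 := forall_lt_step (b := 10500) h6 tree_at9000 rfl
  have h8 := forall_lt_step (b := 12000) h7 tree_at10500 rfl
  have h9 := forall_lt_step (b := 13500) h8 tree_at12000 rfl
  have h10 := forall_lt_step (b := 15000) h9 tree_at13500 rfl
  have h11 := forall_lt_step (b := 16500) h10 tree_at15000 rfl
  have h12 := forall_lt_step (b := 17472) h11 tree_at16500 rfl
  exact h12

theorem checked : cert.Checked where
  d_eq := by decide +kernel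
  n_pos := by decide +kernel
  K_pos := by decide +kernel
  relsLen := by decide +kernel
  relsLt := by decide +kernel
  free_lt := by decide +kernel
  tree := tree_ok
  var := var_ok
  row := List.all_eq_true.1 (by decide +kernel : cert.rows.all cert.rowB = true)
  combo := fun c hc => (allFrom_iff cert.comboB 0 21).1 (by decide +kernel) c (Nat.zero_le c) (by rw [Nat.zero_add]; exact hc)
  shift_ok := fun c hc => (allFrom_iff cert.shiftB 0 7).1 (by decide +kernel) c (Nat.zero_le c) (by rw [Nat.zero_add]; exact hc)

end Cfsg.Agent.CocycleCert.ThTwo
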